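import Mathlib.Algebra.Module.FinitePresentation

/-! Kernels, images and cokernels of maps of coherent modules. -/

set_option autoImplicit false

namespace Groth.Agent.CohMod

variable {R N M : Type*} [CommRing R] [AddCommGroup N] [Module R N] [AddCommGroup M] [Module R M]

theorem fp_of_fg_map (hM : ∀ P : Submodule R M, P.FG → Module.FinitePresentation R P) {ι : N →ₗ[R] M}
    (hι : Function.Injective ι) (P : Submodule R N) (hP : P.FG) : Module.FinitePresentation R P :=
  have := hM _ (hP.map ι)
  Module.FinitePresentation.of_equiv (Submodule.equivMapOfInjective ι hι P).symm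

theorem fg_ker [Module.Finite R N] (hM : ∀ P : Submodule R M, P.FG → Module.FinitePresentation R P)
    (φ : N →ₗ[R] M) : (LinearMap.ker φ).FG := by
  haveI := hM _ ((Module.Finite.fg_top (R := R) (M := N)).map φ)
  rw [Submodule.map_top] at this
  rw [← LinearMap.ker_rangeRestrict]
  exact Module.FinitePresentation.fg_ker _ φ.surjective_rangeRestrict

theorem fp_quotient (hM : ∀ P : Submodule R M, P.FG → Module.FinitePresentation R P)
    (L : Submodule R M) (hL : L.FG) (P : Submodule R (M ⧸ L)) (hP : P.FG) :
    Module.FinitePresentation R P := by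
  classical
  obtain ⟨S, rfl⟩ := hP
  choose lift hlift using L.mkQ_surjective
  let Q : Submodule R M := Submodule.span R (lift '' (S : Set (M ⧸ L))) ⊔ L
  have hQ : Q.FG := (Submodule.fg_span (S.finite_toSet.image lift)).sup hL
  haveI := hM Q hQ
  have hmap : Q.map L.mkQ = Submodule.span R (S : Set (M ⧸ L)) := by
    rw [Submodule.map_sup, Submodule.map_span, ← Set.image_comp, show L.mkQ ∘ lift = id from funext hlift,
      Set.image_id, L.mkQ_map_self, sup_bot_eq]
  let l : Q →ₗ[R] Submodule.span R (S : Set (M ⧸ L)) :=
    (L.mkQ.comp Q.subtype).codRestrict _ fun q => hmap.le (Submodule.mem_map_of_mem q.2)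
  refine Module.finitePresentation_of_surjective l (fun y => ?_) ?_
  · obtain ⟨q, hq, he⟩ := (hmap.ge y.2 : (y : M ⧸ L) ∈ Q.map L.mkQ)
    exact ⟨⟨q, hq⟩, Subtype.ext he⟩
  · rw [show LinearMap.ker l = L.comap Q.subtype by
      rw [LinearMap.ker_codRestrict, LinearMap.ker_comp, Submodule.ker_mkQ]]
    refine Submodule.fg_of_fg_map_injective Q.subtype Subtype.val_injective ?_
    rwa [Submodule.map_comap_subtype, inf_eq_right.2 le_sup_right]

end Groth.Agent.CohMod
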